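import Cfsg.Agent.Lib.Blocks.BrauerDegree.Count

/-!
# Blocks whose Cartan matrix is divisible by the defect

If the inner products of the regular columns of a block are divisible by a power of `p` at least as
large as the order of a defect group, then the block has only one simple module: the scaled inverse
of the Cartan matrix has rank one modulo the maximal ideal and is invertible.
-/

set_option autoImplicit false
set_option linter.unusedSectionVars false
set_option maxHeartbeats 1000000
set_option synthInstance.maxHeartbeats 200000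

namespace CfsgLib.Blocks.EqualDegree

open Cfsg CfsgLib.Blocks CfsgLib.Blocks.ResidueAlgebra CfsgLib.Blocks.TwoCharacters CfsgLib.BrouePuig
  CfsgLib.Blocks.BrauerDegree
open scoped Classical

universe u

variable {p : ℕ} [Fact p.Prime] {M : Ideal AlgInt} {hM : IsPModular p M} {G : Type u} [Group G]
  [Fintype G] (D : Dec hM G)

theorem tr_regular_independent {b : Fin D.r → Residue hM}
    (hb : ∀ y, IsPRegular p y → ∑ i, b i * (D.π (MonoidAlgebra.single y 1) i).trace = 0) : b = 0 := by
  haveI := TwoCharacters.charP_residue hM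
  refine RegularBasis.tr_independent D.surj fun g => ?_
  obtain ⟨x, y, -, hxy, hc, hy, ⟨j, hj⟩, -, -⟩ := exists_isPPart (G := G) hM.1 g
  have e : ∀ i, RegularBasis.tr D.π i g = RegularBasis.tr D.π i y := fun i => by
    rw [← RegularBasis.traceFun_compRep, ← hxy, hc.eq]
    exact SimpleTrace.traceFun_mul_pElem p _ hc.symm (n := j) (by rw [← hj, pow_orderOf_eq_one])
  refine Eq.trans ?_ (hb y hy)
  exact Finset.sum_congr rfl fun i _ => by rw [e]; rfl

/-- An integral form on Brauer characters with values divisible by `p ^ n` is divisible by `p ^ n`. -/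
theorem dvd_of_bilin (n : ℕ) (C : Fin D.r → Fin D.r → ℤ)
    (h : ∀ y y', IsPRegular p y → IsPRegular p y' → ∃ c, MemLocalRing M c ∧
      ∑ i, ∑ j, (C i j : ℂ) * (phi D i y * phi D j y') = (p : ℂ) ^ n * c) (i j : Fin D.r) :
    (p : ℤ) ^ n ∣ C i j := by
  induction n generalizing i j with
  | zero => simp
  | succ n ih =>
    have ih' := ih fun y y' hy hy' => by
      obtain ⟨c, hc, e⟩ := h y y' hy hy'
      exact ⟨(p : ℂ) * c, LR.mul hM (LR.natCast hM p) hc, by rw [e, pow_succ]; ring⟩
    choose C' hC' using ih'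
    suffices hp : resid hM (C' i j : ℂ) = 0 by
      rw [resid_eq_zero_iff hM (LR.intCast hM _), LI.intCast_iff hM] at hp
      rw [hC', pow_succ]
      exact mul_dvd_mul_left _ hp
    have hI : ∀ y y', IsPRegular p y → IsPRegular p y' →
        MemLocalIdeal M (∑ i, ∑ j, (C' i j : ℂ) * (phi D i y * phi D j y')) := fun y y' hy hy' => by
      obtain ⟨c, hc, e⟩ := h y y' hy hy'
      have : ∑ i, ∑ j, (C' i j : ℂ) * (phi D i y * phi D j y') = (p : ℂ) * c := by
        refine mul_left_cancel₀ (pow_ne_zero n (Nat.cast_ne_zero.2 hM.1.ne_zero : (p : ℂ) ≠ 0)) ?_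
        rw [← mul_assoc, ← pow_succ, ← e, Finset.mul_sum]
        refine Finset.sum_congr rfl fun i _ => ?_
        rw [Finset.mul_sum]
        refine Finset.sum_congr rfl fun j _ => ?_
        rw [hC']
        push_cast
        ring
      rw [this]
      exact LI.mul_right hM (LI.natCast_prime hM) hc
    let τ := fun i (y : G) => (D.π (MonoidAlgebra.single y 1) i).trace
    have hz : ∀ y y', IsPRegular p y → IsPRegular p y' →
        ∑ i, (∑ j, resid hM (C' i j : ℂ) * τ j y') * τ i y = 0 := fun y y' hy hy' => by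
      rw [← resid_eq_zero hM (hI y y' hy hy'), resid_sum hM _ fun i _ => LR.sum hM fun j _ =>
        LR.mul hM (LR.intCast hM _) (LR.mul hM (phi_LR D _ _) (phi_LR D _ _))]
      refine Finset.sum_congr rfl fun i _ => ?_
      rw [resid_sum hM _ fun j _ => LR.mul hM (LR.intCast hM _)
        (LR.mul hM (phi_LR D _ _) (phi_LR D _ _)), Finset.sum_mul]
      refine Finset.sum_congr rfl fun j _ => ?_
      rw [resid_mul hM (LR.intCast hM _) (LR.mul hM (phi_LR D _ _) (phi_LR D _ _)),
        resid_mul hM (phi_LR D _ _) (phi_LR D _ _), resid_phi D i hy, resid_phi D j hy']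
      ring
    have h1 := fun y' hy' => tr_regular_independent D
      (b := fun i => ∑ j, resid hM (C' i j : ℂ) * τ j y') fun y hy => hz y y' hy hy'
    exact congrFun (tr_regular_independent D (b := fun j => resid hM (C' i j : ℂ))
      fun y' hy' => congrFun (h1 y' hy') i) j

/-- Independence turns values on regular elements into decomposition numbers. -/
theorem eq_of_sum_phi {a b : Fin D.r → ℂ}
    (h : ∀ y, IsPRegular p y → ∑ i, a i * phi D i y = ∑ i, b i * phi D i y) : a = b :=
  sub_eq_zero.1 (phi_independent D fun y hy => by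
    simp only [Pi.sub_apply, sub_mul, Finset.sum_sub_distrib, h y hy, sub_self])

theorem exists_left_inverse (i : Fin D.r) : ∃ c : IrrCharacter G → ℤ,
    ∀ j, ∑ χ, (c χ : ℂ) * (mult D χ j : ℂ) = if j = i then 1 else 0 := by
  obtain ⟨e, he, hgen⟩ := exists_exponent_generalized D i
  obtain ⟨hcl, hint⟩ := Char.isGeneralizedCharacter_iff.1 hgen
  choose c hc using fun χ : IrrCharacter G => hint χ χ.2
  refine ⟨c, congrFun (eq_of_sum_phi D fun y hy => ?_)⟩
  simp only [ite_mul, one_mul, zero_mul, Finset.sum_ite_eq', Finset.mem_univ, if_true]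
  have h1 := congrFun (Char.IsClassFunction.eq_sum_irr hcl) y
  simp only [he y hy, Finset.sum_apply, Pi.smul_apply, smul_eq_mul, hc] at h1
  rw [h1]
  simp only [apply_eq_sum_phi D _ hy, Finset.mul_sum, Finset.sum_mul, mul_assoc]
  exact Finset.sum_comm

variable {b : Set (IrrCharacter G)}

/-- A block with Cartan matrix divisible by the defect has rank one. -/
theorem blockRank_le_one_of_dvd (hM : IsPModular p M) (hb : IsPBlock M b)
    {S : Set (IrrCharacter G)} (hbS : b ⊆ S) {δ : ℕ} (hδ : blockDefect p b ≤ δ)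
    (hker : ∀ y y', IsPRegular p y → IsPRegular p y' →
      ∃ c, MemLocalRing M c ∧ blockKernel S y y' = (p : ℂ) ^ δ * c) :
    blockRank p b ≤ 1 := by
  obtain ⟨D⟩ := nonempty_dec hM G
  refine (blockRank_le_card D hb).trans ?_
  set I := Finset.univ.filter fun i => D.π (idem hM b) i = 1
  have memI : ∀ i, i ∈ I → D.π (idem hM b) i = 1 := fun i hi => (Finset.mem_filter.1 hi).2
  have hsub : ∀ i ∈ I, ∀ χ : IrrCharacter G, χ ∉ b → mult D χ i = 0 := fun i hi χ hχ =>
    mult_eq_zero D hb χ i fun hiff => hχ (hiff.2 (memI i hi))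
  have hout : ∀ i, i ∉ I → ∀ χ ∈ b, mult D χ i = 0 := fun i hi χ hχ =>
    mult_eq_zero D hb χ i fun hiff => hi (Finset.mem_filter.2 ⟨Finset.mem_univ _, hiff.1 hχ⟩)
  choose c hc using exists_left_inverse D
  -- the Cartan numbers are divisible
  let C : Fin D.r → Fin D.r → ℤ := fun i j =>
    ∑ χ ∈ S.toFinset, (mult D χ i : ℤ) * (mult D χ j : ℤ)
  have hC : ∀ i j, (p : ℤ) ^ δ ∣ C i j := dvd_of_bilin D δ C fun y y' hy hy' => by
    obtain ⟨x, hx, e⟩ := hker y⁻¹ y' (isPRegular_inv.2 hy) hy'
    refine ⟨x, hx, e ▸ ?_⟩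
    rw [blockKernel, ← Finset.sum_subset (Finset.subset_univ S.toFinset) fun χ _ hχ => by
      rw [blockInd_of_notMem fun hm => hχ (Set.mem_toFinset.2 hm), zero_mul]]
    simp only [C, Int.cast_sum, Int.cast_mul, Int.cast_natCast, Finset.sum_mul]
    rw [Finset.sum_comm_cycle]
    refine Finset.sum_congr rfl fun χ hχ => ?_
    rw [blockInd_of_mem (Set.mem_toFinset.1 hχ), one_mul, inv_inv, apply_eq_sum_phi D χ hy,
      apply_eq_sum_phi D χ hy', Finset.sum_mul_sum]
    exact Finset.sum_congr rfl fun i _ => Finset.sum_congr rfl fun j _ => by ring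
  have hCb : ∀ i ∈ I, ∀ j, (C i j : ℂ) = ∑ χ, (mult D χ i : ℂ) * (mult D χ j : ℂ) := by
    intro i hi j
    simp only [C, Int.cast_sum, Int.cast_mul, Int.cast_natCast]
    refine Finset.sum_subset (Finset.subset_univ _) fun χ _ hχ => ?_
    rw [hsub i hi χ fun hm => hχ (Set.mem_toFinset.2 (hbS hm)), Nat.cast_zero, zero_mul]
  choose C' hC' using hC
  -- the regular inner products
  let Z : Fin D.r → IrrCharacter G → ℂ := fun i ψ => regInner p (phi D i) (ψ : G → ℂ)
  have hXZ : ∀ χ ψ : IrrCharacter G,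
      (regInt p χ ψ : ℂ) = ∑ i, (mult D χ i : ℂ) * Z i ψ := by
    intro χ ψ
    rw [cast_regInt hM.1]
    simp only [Z, regInner, Finset.mul_sum]
    rw [Finset.sum_comm]
    refine Finset.sum_congr rfl fun x hx => ?_
    rw [apply_eq_sum_phi D χ (Finset.mem_filter.1 hx).2, Finset.sum_mul, Finset.mul_sum]
    exact Finset.sum_congr rfl fun i _ => by ring
  have hAX : ∀ χ ∈ b, ∀ j,
      ∑ ψ ∈ b.toFinset, (regInt p χ ψ : ℂ) * (mult D ψ j : ℂ)
        = (pPartCard p G : ℂ) * (mult D χ j : ℂ) := by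
    intro χ hχ
    refine congrFun (eq_of_sum_phi D fun y hy => ?_)
    have hs := sum_regInner_mul hM (IsPBlock.isLocalOn hM hb) χ y
    rw [if_pos hy, blockInd_of_mem hχ, mul_one, ← Finset.sum_subset
      (Finset.subset_univ b.toFinset) fun ψ _ hψ => by
        rw [blockInd_of_notMem fun hm => hψ (Set.mem_toFinset.2 hm), zero_mul, zero_mul]] at hs
    simp only [mul_assoc, Finset.sum_mul, ← Finset.mul_sum, ← apply_eq_sum_phi D _ hy]
    rw [Finset.sum_comm, ← hs]
    refine Finset.sum_congr rfl fun ψ hψ => ?_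
    rw [blockInd_of_mem (Set.mem_toFinset.1 hψ), one_mul, cast_regInt hM.1,
      apply_eq_sum_phi D _ hy, Finset.mul_sum]
  have hcB : ∀ i ∈ I, ∀ j ∈ I,
      ∑ ψ ∈ b.toFinset, (c i ψ : ℂ) * (mult D ψ j : ℂ) = if j = i then 1 else 0 := by
    intro i _ j hj
    rw [← hc i j]
    exact Finset.sum_subset (Finset.subset_univ _) fun χ _ hχ => by
      rw [hsub j hj χ fun hm => hχ (Set.mem_toFinset.2 hm), Nat.cast_zero, mul_zero]
  have hAc : ∀ χ : IrrCharacter G, ∀ i ∈ I,
      ∑ ψ ∈ b.toFinset, (regInt p χ ψ : ℂ) * (c i ψ : ℂ) = Z i χ := by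
    intro χ i hi
    simp only [regInt_comm χ, hXZ _ χ, Finset.sum_mul]
    rw [Finset.sum_comm, ← Finset.sum_subset (Finset.subset_univ I) fun j _ hj =>
      Finset.sum_eq_zero fun ψ hψ => by
        rw [hout j hj ψ (Set.mem_toFinset.1 hψ), Nat.cast_zero, zero_mul, zero_mul],
      Finset.sum_congr rfl (g := fun j => Z j χ * if j = i then 1 else 0) fun j hj => by
        rw [← hcB i hi j hj, Finset.mul_sum]
        exact Finset.sum_congr rfl fun ψ _ => by ring]
    simp [hi]
  -- the scaled inverse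
  set v := minDegVal p b
  have hA : ∀ χ ψ : IrrCharacter G, ψ ∈ b → (p : ℤ) ^ v ∣ regInt p χ ψ := fun χ ψ hψ =>
    (pow_dvd_pow _ (minDegVal_le hψ)).trans (regInt_mod hM χ ψ).1
  choose! A' hA' using hA
  let T' : Matrix I I ℤ := Matrix.of fun i j =>
    ∑ χ ∈ b.toFinset, ∑ ψ ∈ b.toFinset, c i χ * c j ψ * A' χ ψ
  let Cm : Matrix I I ℤ := Matrix.of fun i j => C' i j
  have hp0 : (p : ℤ) ≠ 0 := Int.natCast_ne_zero.2 hM.1.ne_zero
  have hTC : ∀ i j : I, (p : ℤ) ^ (v + δ) * (T' * Cm) i j
      = (pPartCard p G : ℤ) * if i = j then 1 else 0 := by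
    intro i j
    apply Int.cast_injective (α := ℂ)
    have e1 : ∀ m : I, (p : ℂ) ^ v * (T' i m : ℂ)
        = ∑ χ ∈ b.toFinset, (c i χ : ℂ) * Z m χ := fun m => by
      simp only [T', Matrix.of_apply, Int.cast_sum, Int.cast_mul, Finset.mul_sum]
      refine Finset.sum_congr rfl fun χ _ => ?_
      rw [← hAc χ m m.2, Finset.mul_sum]
      refine Finset.sum_congr rfl fun ψ hψ => ?_
      rw [hA' χ ψ (Set.mem_toFinset.1 hψ)]
      push_cast
      ring
    have e2 : ∀ m : I, (p : ℂ) ^ δ * (Cm m j : ℂ) = (C m j : ℂ) := fun m => by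
      rw [hC' m j]
      simp [Cm]
    calc (((p : ℤ) ^ (v + δ) * (T' * Cm) i j : ℤ) : ℂ)
        = ∑ m : I, ((p : ℂ) ^ v * (T' i m : ℂ)) * ((p : ℂ) ^ δ * (Cm m j : ℂ)) := by
          rw [Matrix.mul_apply]
          push_cast
          rw [pow_add, Finset.mul_sum]
          exact Finset.sum_congr rfl fun m _ => by ring
      _ = ∑ χ ∈ b.toFinset, (c i χ : ℂ) * ∑ m : I, Z m χ * (C m j : ℂ) := by
          simp only [e1, e2, Finset.sum_mul, Finset.mul_sum, mul_assoc]
          exact Finset.sum_comm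
      _ = ∑ χ ∈ b.toFinset, (c i χ : ℂ) * ((pPartCard p G : ℂ) * (mult D χ j : ℂ)) := by
          refine Finset.sum_congr rfl fun χ hχ => congrArg _ ?_
          rw [← hAX χ (Set.mem_toFinset.1 hχ) j]
          calc ∑ m : I, Z m χ * (C m j : ℂ)
              = ∑ m : I, Z m χ * ∑ ψ ∈ b.toFinset, (mult D ψ m : ℂ) * (mult D ψ j : ℂ) :=
                Finset.sum_congr rfl fun m _ => by
                  rw [hCb m m.2]
                  exact congrArg _ (Finset.sum_subset (Finset.subset_univ _) fun ψ _ hψ => by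
                    rw [hsub m m.2 ψ fun hm => hψ (Set.mem_toFinset.2 hm), Nat.cast_zero, zero_mul]).symm
            _ = _ := by
                simp only [Finset.mul_sum]
                rw [Finset.sum_comm]
                refine Finset.sum_congr rfl fun ψ hψ => ?_
                rw [regInt_comm χ ψ, hXZ ψ χ, Finset.sum_mul,
                  ← Finset.sum_subset (Finset.subset_univ I) fun m _ hm => by
                    rw [hout m hm ψ (Set.mem_toFinset.1 hψ), Nat.cast_zero, zero_mul, zero_mul],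
                  ← Finset.sum_coe_sort I]
                exact Finset.sum_congr rfl fun m _ => by ring
      _ = _ := by
          rw [Finset.sum_congr rfl (g := fun χ => (pPartCard p G : ℂ) * ((c i χ : ℂ) * (mult D χ j : ℂ)))
            fun χ _ => mul_left_comm _ _ _, ← Finset.mul_sum, hcB i i.2 j j.2]
          by_cases hij : i = j
          · subst hij; simp
          · rw [if_neg hij, if_neg fun e => hij (Subtype.ext e.symm)]
            simp
  rcases I.eq_empty_or_nonempty with he | ⟨i₀, hi₀⟩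
  · rw [he]; simp
  have hpp : (pPartCard p G : ℤ) = (p : ℤ) ^ (v + blockDefect p b) := by
    rw [pPartCard, add_comm, blockDefect_add_min (IsPBlock.nonempty hM hb)]
    push_cast
    rfl
  have hδeq : blockDefect p b = δ := by
    have h := hTC ⟨i₀, hi₀⟩ ⟨i₀, hi₀⟩
    rw [if_pos rfl, mul_one, hpp] at h
    have h2 := (pow_dvd_pow_iff hp0 (by
      intro hu; exact hM.1.ne_one (Int.ofNat_isUnit.1 hu |> Nat.isUnit_iff.1))).1 (Dvd.intro _ h)
    omega
  have hone : T' * Cm = 1 := by
    ext i j
    refine mul_left_cancel₀ (pow_ne_zero (v + δ) hp0) ?_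
    rw [hTC, hpp, hδeq, Matrix.one_apply]
  -- rank one modulo the maximal ideal
  obtain ⟨ψ₀, hψ₀⟩ := IsPBlock.nonempty hM hb
  let f : ℤ →+* Residue hM := Int.castRingHom _
  have hcast : ∀ z : ℤ, (z : Residue hM) = resid hM (z : ℂ) := fun z => by
    have := resid_mk hM (z : localSubring hM)
    rw [SubringClass.coe_intCast, map_intCast] at this
    exact this.symm
  let U : IrrCharacter G → Residue hM := fun ψ =>
    ((charDegree (ψ : G → ℂ) / p ^ v : ℕ) : Residue hM)
  let K : IrrCharacter G → Residue hM := fun χ =>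
    resid hM (omega (ψ₀ : G → ℂ) (regClassFun p (χ : G → ℂ)))
  have hAmod : ∀ χ, ∀ ψ ∈ b, (A' χ ψ : Residue hM) = U ψ * K χ := by
    intro χ ψ hψ
    set m := charDegree (ψ : G → ℂ) / p ^ v
    have hdeg : charDegree (ψ : G → ℂ) = p ^ v * m := (Nat.mul_div_cancel'
      ((hM.1.pow_dvd_iff_le_factorization (charDegree_pos ψ).ne').2 (minDegVal_le hψ))).symm
    have hω : ∀ φ : IrrCharacter G, MemLocalRing M (omega (φ : G → ℂ) (regClassFun p (χ : G → ℂ))) :=
      fun φ => omega_LR hM φ
        (regClassFun_isClassFunction (CfsgLib.Char.IsIrrCharacter.isClassFunction χ.2))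
        (regClassFun_LR hM χ)
    have e : (A' χ ψ : ℂ) = (m : ℂ) * omega (ψ : G → ℂ) (regClassFun p (χ : G → ℂ)) := by
      refine mul_left_cancel₀ (pow_ne_zero v (Nat.cast_ne_zero.2 hM.1.ne_zero : (p : ℂ) ≠ 0)) ?_
      rw [← mul_assoc, ← Nat.cast_pow, ← Nat.cast_mul, ← hdeg, ← irr_one_eq, ← regInner_eq_omega,
        ← cast_regInt hM.1, hA' χ ψ hψ]
      push_cast
      ring
    have hK : resid hM (omega (ψ : G → ℂ) (regClassFun p (χ : G → ℂ))) = K χ := by
      have h := omega_regClassFun_congr hM χ (IsPBlock.sameBlock hM hb hψ hψ₀)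
      have h2 := resid_eq_zero hM h
      rw [← sub_add_cancel (omega (ψ : G → ℂ) (regClassFun p (χ : G → ℂ)))
        (omega (ψ₀ : G → ℂ) (regClassFun p (χ : G → ℂ))),
        resid_add hM (LI.memLocalRing h) (hω ψ₀), h2, zero_add]
    rw [hcast, e, resid_mul hM (LR.natCast hM _) (hω ψ), resid_natCast hM, hK]
  have hvec : T'.map f = Matrix.vecMulVec (fun i : I => ∑ χ ∈ b.toFinset, (c i χ : Residue hM) * K χ)
      (fun j : I => ∑ ψ ∈ b.toFinset, (c j ψ : Residue hM) * U ψ) := by
    ext i j
    simp only [Matrix.map_apply, T', Matrix.of_apply, Matrix.vecMulVec_apply, Finset.sum_mul_sum,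
      f, Int.coe_castRingHom, Int.cast_sum, Int.cast_mul]
    exact Finset.sum_congr rfl fun χ _ => Finset.sum_congr rfl fun ψ hψ => by
      rw [hAmod χ ψ (Set.mem_toFinset.1 hψ)]; ring
  have hone' : T'.map f * Cm.map f = 1 := by
    rw [← Matrix.map_mul, hone, Matrix.map_one f (map_zero f) (map_one f)]
  have h1 := Matrix.rank_mul_le_left (T'.map f) (Cm.map f)
  rw [hone', Matrix.rank_one, Fintype.card_coe, hvec] at h1
  exact h1.trans (Matrix.rank_vecMulVec_le _ _)

end CfsgLib.Blocks.EqualDegree
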