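import Cfsg.Agent.Lib.Blocks.EqualDegree.OneSimple
import Cfsg.Agent.Lib.Blocks.SecondMainBlocks
import Mathlib.RingTheory.Nakayama

/-!
# The congruence for a block with equal degrees and all heights zero

The rows of the character table on the block are central character values of local class functions,
so the inner products of the columns are divisible by the order of a defect group.
-/

set_option autoImplicit false
set_option linter.unusedSectionVars false
set_option maxHeartbeats 1000000
set_option synthInstance.maxHeartbeats 200000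

namespace CfsgLib.Blocks.EqualDegree

open Cfsg CfsgLib.Blocks CfsgLib.Blocks.ResidueAlgebra CfsgLib.Blocks.TwoCharacters CfsgLib.BrouePuig
  CfsgLib.Blocks.BrauerDegree CfsgLib.Blocks.LocalRankTwo
open scoped Classical

universe u

variable {p : ℕ} [Fact p.Prime] {M : Ideal AlgInt} {hM : IsPModular p M} {G : Type u} [Group G]
  [Fintype G]

variable (hM) in
/-- The values of the characters of `B` at an element of the group algebra. -/
noncomputable def vec (B : Set (IrrCharacter G)) :
    LAlg hM G →ₗ[localSubring hM] ((↥B) → ℂ) where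
  toFun a := fun χ => val hM (χ : IrrCharacter G) a
  map_add' a b := funext fun χ => val_add hM _ a b
  map_smul' c a := funext fun χ => by
    simp only [val_smul, Pi.smul_apply, RingHom.id_apply, Subring.smul_def, smul_eq_mul]

variable (hM) in
/-- The column of the element `g`. -/
noncomputable def col (B : Set (IrrCharacter G)) (g : G) : (↥B) → ℂ :=
  vec hM B (MonoidAlgebra.single g 1)

theorem col_apply {B : Set (IrrCharacter G)} (g : G) (χ : ↥B) :
    col hM B g χ = ((χ : IrrCharacter G) : G → ℂ) g := by
  show val hM (χ : IrrCharacter G) (MonoidAlgebra.single g 1) = _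
  rw [val_single, OneMemClass.coe_one, one_mul]

variable (hM) in
/-- The lattice spanned by the columns. -/
noncomputable def colSpan (B : Set (IrrCharacter G)) : Submodule (localSubring hM) ((↥B) → ℂ) :=
  Submodule.span _ (Set.range (col hM B))

variable (hM) in
/-- The central character values of local class functions. -/
noncomputable def centralSpan (B : Set (IrrCharacter G)) :
    Submodule (localSubring hM) ((↥B) → ℂ) where
  carrier := {v | ∃ f : G → ℂ, IsClassFunction G f ∧ (∀ x, MemLocalRing M (f x)) ∧
    ∀ χ : ↥B, v χ = omega ((χ : IrrCharacter G) : G → ℂ) f}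
  zero_mem' := ⟨0, fun _ _ => rfl, fun _ => LR.zero hM, fun χ => by simp [omega]⟩
  add_mem' := by
    rintro v w ⟨f, hf, hfR, hv⟩ ⟨g, hg, hgR, hw⟩
    refine ⟨f + g, fun x y => ?_, fun x => LR.add hM (hfR x) (hgR x), fun χ => ?_⟩
    · simp only [Pi.add_apply, hf x y, hg x y]
    · simp only [Pi.add_apply, hv, hw, omega, add_mul, Finset.sum_add_distrib, add_div]
  smul_mem' := by
    rintro c v ⟨f, hf, hfR, hv⟩
    refine ⟨fun x => (c : ℂ) * f x, fun x y => ?_, fun x => LR.mul hM c.2 (hfR x), fun χ => ?_⟩
    · show (c : ℂ) * _ = _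
      rw [hf x y]
    · simp only [Pi.smul_apply, Subring.smul_def, smul_eq_mul, hv, omega, mul_assoc, ← Finset.mul_sum,
        mul_div]

variable (hM) in
/-- The block idempotent over the local ring. -/
noncomputable def blockAlg {B : Set (IrrCharacter G)} (hB : IsPBlock M B) : LAlg hM G :=
  MonoidAlgebra.ofCoeff (Finsupp.equivFunOnFinite.symm fun g =>
    (⟨blockCoeff B g, blockCoeff_LR hM hB g⟩ : localSubring hM))

theorem coeff_blockAlg {B : Set (IrrCharacter G)} (hB : IsPBlock M B) (g : G) :
    (((blockAlg hM hB).coeff g : localSubring hM) : ℂ) = blockCoeff B g := by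
  simp [blockAlg]

theorem red_blockAlg {B : Set (IrrCharacter G)} (hB : IsPBlock M B) :
    red hM (blockAlg hM hB) = idem hM B :=
  MonoidAlgebra.coeff_injective (Finsupp.ext fun g => by rw [coeff_red_resid, coeff_blockAlg, coeff_idem])

/-- Multiplication by an element with class function coefficients. -/
theorem val_classFun_mul (χ : IrrCharacter G) {F : LAlg hM G} {f : G → ℂ}
    (hF : ∀ g, ((F.coeff g : localSubring hM) : ℂ) = f g) (hf : IsClassFunction G f)
    (a : LAlg hM G) : val hM χ (F * a) = omega (χ : G → ℂ) f * val hM χ a := by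
  rw [val_mul_comm, val_mul]
  simp only [val, Finset.mul_sum]
  refine Finset.sum_congr rfl fun g _ => ?_
  rw [mul_left_comm, ← sum_classFun_mul_char χ hf g, Finset.mul_sum]
  exact Finset.sum_congr rfl fun h _ => by rw [hF]; ring

theorem val_blockAlg_mul {B : Set (IrrCharacter G)} (hB : IsPBlock M B) {χ : IrrCharacter G}
    (hχ : χ ∈ B) (a : LAlg hM G) : val hM χ (blockAlg hM hB * a) = val hM χ a := by
  rw [val_classFun_mul χ (coeff_blockAlg hB) (blockCoeff_isClassFunction B), omega_blockCoeff,
    blockInd_of_mem hχ, one_mul]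

variable {B : Set (IrrCharacter G)} {d : ℕ}

theorem vec_mem_colSpan (a : LAlg hM G) : vec hM B a ∈ colSpan hM B := by
  rw [eq_sum_single a, map_sum]
  refine sum_mem fun g _ => ?_
  rw [show MonoidAlgebra.single g (a.coeff g) = a.coeff g • MonoidAlgebra.single g (1 : localSubring hM)
    by simp, map_smul]
  exact Submodule.smul_mem _ _ (Submodule.subset_span ⟨g, rfl⟩)

theorem vec_mem_of_red_eq_zero {a : LAlg hM G} (ha : red hM a = 0) :
    vec hM B a ∈ localMaxIdeal hM • colSpan hM B := by
  rw [eq_sum_single a, map_sum]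
  refine sum_mem fun g _ => ?_
  rw [show MonoidAlgebra.single g (a.coeff g) = a.coeff g • MonoidAlgebra.single g (1 : localSubring hM)
    by simp, map_smul]
  refine Submodule.smul_mem_smul ?_ (Submodule.subset_span ⟨g, rfl⟩)
  rw [← Ideal.Quotient.eq_zero_iff_mem, ← coeff_red, ha]
  simp

theorem vec_mem_of_red_mem_commSpan (a : LAlg hM G)
    (ha : red hM a ∈ commSpan (Residue hM) (KAlg hM G)) :
    vec hM B a ∈ localMaxIdeal hM • colSpan hM B := by
  suffices key : ∀ y ∈ commSpan (Residue hM) (KAlg hM G), ∀ a : LAlg hM G, red hM a = y →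
      vec hM B a ∈ localMaxIdeal hM • colSpan hM B from key _ ha a rfl
  intro y hy
  induction hy using Submodule.span_induction with
  | mem y hy =>
    obtain ⟨⟨x, z⟩, rfl⟩ := hy
    intro a ha
    have h0 : vec hM B (liftK hM x * liftK hM z - liftK hM z * liftK hM x) = 0 := by
      rw [map_sub, sub_eq_zero]
      funext χ
      exact val_mul_comm hM _ _ _
    rw [← sub_zero (vec hM B a), ← h0, ← map_sub]
    refine vec_mem_of_red_eq_zero ?_
    rw [map_sub, map_sub, map_mul, map_mul, red_liftK, red_liftK, ha, sub_self]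
  | zero => exact fun a ha => vec_mem_of_red_eq_zero ha
  | add x z _ _ hx hz =>
    intro a ha
    rw [← sub_add_cancel a (liftK hM x), map_add]
    refine add_mem (hz _ ?_) (hx _ (red_liftK hM x))
    rw [map_sub, red_liftK, ha, add_sub_cancel_left]
  | smul c x _ hx =>
    intro a ha
    obtain ⟨c', rfl⟩ := Ideal.Quotient.mk_surjective c
    rw [← sub_add_cancel a (c' • liftK hM x), map_add, map_smul]
    refine add_mem (vec_mem_of_red_eq_zero ?_) (Submodule.smul_mem _ _ (hx _ (red_liftK hM x)))
    rw [map_sub, red_smul, red_liftK, ha, sub_self]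

theorem localMaxIdeal_le_jacobson :
    localMaxIdeal hM ≤ Ideal.jacobson (⊥ : Ideal (localSubring hM)) := by
  intro x hx
  rw [Ideal.mem_jacobson_bot]
  intro y
  refine isUnit_of_not_LI hM _ fun hI => ?_
  have h1 : x * y + 1 ∈ localMaxIdeal hM := mem_localMaxIdeal.2 hI
  have h2 := (localMaxIdeal hM).sub_mem h1 ((localMaxIdeal hM).mul_mem_right y hx)
  rw [add_sub_cancel_left] at h2
  exact LI.not_one hM (by simpa using mem_localMaxIdeal.1 h2)

/-- Every column is a vector of central character values. -/
theorem col_mem_centralSpan (hM : IsPModular p M) (h : EqDeg p M B d) (g : G) :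
    col hM B g ∈ centralSpan hM B := by
  obtain ⟨D⟩ := nonempty_dec hM G
  obtain ⟨i₀, P, Q, hd, hmult, hQP, hsum, hPE, hEQ, heP, hcomm⟩ := exists_corner D h
  set E : KAlg hM G := idem hM B * red hM (D.E i₀) with hEdef
  have hec := idem_commute hM (G := G) (B := B)
  have hE : IsIdempotentElem E := by
    show idem hM B * red hM (D.E i₀) * (idem hM B * red hM (D.E i₀)) = _
    rw [mul_assoc, ← mul_assoc (red hM (D.E i₀)), ← hec, mul_assoc, ((D.idemE i₀).map (red hM)).eq,
      ← mul_assoc, idem_mul_self hM h.blk]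
  clear_value E
  have hcor : ∀ y l j, Q l * y * P j ∈ RankOneCorner.corner (Residue hM) E := fun y l j =>
    (RankOneCorner.mem_corner hE).2 (by
      simp only [← mul_assoc, hEQ]; rw [mul_assoc _ (P j), hPE])
  suffices hle : colSpan hM B ≤ centralSpan hM B from hle (Submodule.subset_span ⟨g, rfl⟩)
  refine Submodule.le_of_le_smul_of_le_jacobson_bot (Submodule.fg_span (Set.finite_range _))
    localMaxIdeal_le_jacobson (Submodule.span_le.2 ?_)
  rintro _ ⟨x, rfl⟩
  set xb : KAlg hM G := MonoidAlgebra.single x 1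
  set r := ∑ l, Q l * xb * P l with hr
  have hrR : r ∈ RankOneCorner.corner (Residue hM) E := sum_mem fun l _ => hcor xb l l
  set z := ∑ l, P l * r * Q l with hz
  have hez : idem hM B * z = z := by
    rw [hz, Finset.mul_sum]
    exact Finset.sum_congr rfl fun l _ => by rw [← mul_assoc, ← mul_assoc, heP]
  have hEr : E * r = r ∧ r * E = r := by
    have h1 := (RankOneCorner.mem_corner hE).1 hrR
    constructor
    · conv_lhs => rw [← h1, ← mul_assoc, ← mul_assoc, hE.eq]
      exact h1
    · conv_lhs => rw [← h1, mul_assoc, hE.eq]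
      exact h1
  have hze : z * idem hM B = z := by rw [← hec, hez]
  have hcen : ∀ y, y * z = z * y := by
    intro y
    have h1 : y * z = ∑ j, ∑ l, P j * (r * (Q j * y * P l)) * Q l := by
      calc y * z = idem hM B * (y * z) := by rw [← mul_assoc, hec, mul_assoc, hez]
        _ = ∑ j, ∑ l, P j * (Q j * y * P l * r) * Q l := by
          rw [← hsum, hz, Finset.sum_mul]
          simp only [Finset.mul_sum, mul_assoc]
        _ = _ := by simp only [hcomm _ (hcor y _ _) r hrR]
    have h2 : z * y = z * (y * idem hM B) := by rw [← hec, ← mul_assoc, hze]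
    rw [h1, h2, hz, ← hsum, Finset.sum_mul]
    refine Finset.sum_congr rfl fun j _ => ?_
    simp only [Finset.mul_sum, mul_assoc]
  have hzE : z * E = r := by
    obtain ⟨j⟩ : Nonempty (Fin d) := ⟨⟨0, hd⟩⟩
    have hjj : Q j * P j = E := by rw [hQP, if_pos rfl]
    calc z * E = z * Q j * P j := by rw [mul_assoc, hjj]
      _ = Q j * (z * P j) := by rw [← hcen, mul_assoc]
      _ = ∑ l, Q j * (P l * r * Q l * P j) := by rw [hz, Finset.sum_mul, Finset.mul_sum]
      _ = E * r * E := by
          rw [Finset.sum_eq_single j]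
          · simp only [← mul_assoc]
            rw [hjj, mul_assoc _ (Q j), hjj]
          · intro l _ hl
            simp only [← mul_assoc]
            rw [hQP, if_neg hl.symm, zero_mul, zero_mul, zero_mul]
          · simp
      _ = r := (RankOneCorner.mem_corner hE).1 hrR
  -- the lift
  set F := liftK hM z
  set f : G → ℂ := fun y => ((F.coeff y : localSubring hM) : ℂ)
  have hf : IsClassFunction G f := fun a b =>
    congrArg Subtype.val ((commute_single_iff b F).1 (commute_liftK hM (hcen _)) a)
  set E' := blockAlg hM h.blk * D.E i₀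
  have hw : col hM B x - vec hM B (F * E') ∈ localMaxIdeal hM • colSpan hM B := by
    have e : col hM B x = vec hM B (blockAlg hM h.blk * MonoidAlgebra.single x 1) :=
      funext fun χ => (val_blockAlg_mul h.blk χ.2 _).symm
    rw [e, ← map_sub]
    refine vec_mem_of_red_mem_commSpan _ ?_
    have hred : red hM (blockAlg hM h.blk * MonoidAlgebra.single x 1 - F * E')
        = ∑ l, (xb * P l * Q l - Q l * (xb * P l)) := by
      rw [map_sub, map_mul, map_mul, red_blockAlg, red_single, red_liftK, map_mul, red_blockAlg,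
        show z * (idem hM B * red hM (D.E i₀)) = r by rw [← hEdef]; exact hzE, hec, Finset.sum_sub_distrib, ← hsum,
        Finset.mul_sum]
      simp only [hr, mul_assoc]
      rfl
    rw [hred]
    exact sum_mem fun l _ => comm_mem _ _
  have hW : vec hM B (F * E') ∈ centralSpan hM B := by
    refine ⟨f, hf, fun y => (F.coeff y).2, fun χ => ?_⟩
    show val hM (χ : IrrCharacter G) (F * E') = _
    rw [val_classFun_mul _ (fun _ => rfl) hf, val_blockAlg_mul h.blk χ.2, val_E, hmult _ χ.2,
      Nat.cast_one, mul_one]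
  rw [SetLike.mem_coe, ← sub_add_cancel (col hM B x) (vec hM B (F * E')), add_comm]
  exact Submodule.add_mem_sup hW hw

/-- The inner products of the columns are divisible by the order of a defect group. -/
theorem exists_sum_mul_eq (hM : IsPModular p M) (h : EqDeg p M B d) (g x : G) :
    ∃ c : ℂ, MemLocalRing M c ∧
      ∑ χ ∈ B.toFinset, (χ : G → ℂ) g * (χ : G → ℂ) x = (p : ℂ) ^ blockDefect p B * c := by
  obtain ⟨f, hf, hfR, hx⟩ := col_mem_centralSpan hM h x
  set c₀ := ∑ y, f y * blockCoeff B (y⁻¹ * g⁻¹)
  have hc₀ : MemLocalRing M c₀ :=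
    LR.sum hM fun y _ => LR.mul hM (hfR y) (blockCoeff_LR hM h.blk _)
  have e : c₀ * (Nat.card G : ℂ)
      = (d : ℂ) * ∑ χ ∈ B.toFinset, (χ : G → ℂ) g * (χ : G → ℂ) x := by
    have hbc : ∀ y : G, blockCoeff B y * (Nat.card G : ℂ)
        = ∑ χ ∈ B.toFinset, (d : ℂ) * (χ : G → ℂ) y⁻¹ := fun y => by
      rw [blockCoeff_eq_fourierInv, fourierInv, mul_comm, ← mul_assoc,
        mul_inv_cancel₀ CfsgLib.Char.card_ne_zero, one_mul]
      rw [← Finset.sum_subset (Finset.subset_univ B.toFinset) fun χ _ hχ => by
        rw [blockInd_of_notMem fun hm => hχ (Set.mem_toFinset.2 hm), zero_mul]]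
      refine Finset.sum_congr rfl fun χ hχ => ?_
      rw [blockInd_of_mem (Set.mem_toFinset.1 hχ), one_mul, irr_one_eq,
        h.deg χ (Set.mem_toFinset.1 hχ)]
    simp only [c₀, Finset.sum_mul, mul_assoc, hbc, Finset.mul_sum, mul_inv_rev, inv_inv]
    rw [Finset.sum_comm]
    refine Finset.sum_congr rfl fun χ hχ => ?_
    rw [← col_apply (hM := hM) x ⟨χ, Set.mem_toFinset.1 hχ⟩, hx,
      mul_comm ((χ : G → ℂ) g), ← sum_classFun_mul_char χ hf g, Finset.mul_sum]
    exact Finset.sum_congr rfl fun y _ => by ring
  set mG := Nat.card G / p ^ (Nat.card G).factorization p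
  set md := d / p ^ d.factorization p
  have hmd : ¬ p ∣ md := Nat.not_dvd_ordCompl hM.1 (h.pos hM).ne'
  have hmd0 : (md : ℂ) ≠ 0 := Nat.cast_ne_zero.2 fun e0 => hmd (e0 ▸ dvd_zero p)
  refine ⟨(mG : ℂ) * (md : ℂ)⁻¹ * c₀, LR.mul hM (LR.mul hM (LR.natCast hM _)
    (LR.inv hM (LR.natCast hM _) fun hI => hmd ((LI.natCast_iff hM _).1 hI))) hc₀, ?_⟩
  refine mul_left_cancel₀ (Nat.cast_ne_zero.2 (h.pos hM).ne') (e.symm.trans ?_)
  have hG : Nat.card G = p ^ blockDefect p B * p ^ d.factorization p * mG := by
    rw [← pow_add, h.factorization_add hM, Nat.ordProj_mul_ordCompl_eq_self]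
  have hd : (d : ℂ) = (p : ℂ) ^ d.factorization p * md := by
    exact_mod_cast (Nat.ordProj_mul_ordCompl_eq_self d p).symm
  rw [hG, hd]
  push_cast
  field_simp

end CfsgLib.Blocks.EqualDegree
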