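import Cfsg.Agent.Lib.Blocks.DerivedQuotient
import Cfsg.Agent.Lib.Blocks.NormalDefect
import Cfsg.Agent.Lib.Blocks.FongReynolds
import Cfsg.Agent.Lib.BrauerPairs.Fusion

/-!
# Pairs of a block and pairs modulo the derived subgroup of a normal defect group

For a block of `G ⧸ ⁅D, D⁆` inflating into `B` there are a pair of `B` at `D` and a pair of the
quotient block at the image of `D` such that the stabilizer of the first maps into that of the second.
-/

set_option autoImplicit false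
set_option linter.unusedSectionVars false
set_option maxHeartbeats 1000000
set_option synthInstance.maxHeartbeats 200000

namespace CfsgLib.Blocks.EqualDegree

open Cfsg CfsgLib.Blocks CfsgLib.BrauerPairs CfsgLib.Blocks.FongReynolds CfsgLib.CharDeep.Clifford
open scoped Classical ComplexConjugate commutatorElement

variable {p : ℕ} {M : Ideal AlgInt}

/-- Characters over congruent constituents on a normal subgroup containing the centralizer of a
normal `p`-subgroup lie in one block. -/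
theorem sameBlock_of_over_centralizer {H : Type*} [Group H] [Fintype H] (hM : IsPModular p M)
    {Q K : Subgroup H} [Q.Normal] [K.Normal] (hQ : IsPGroup p Q)
    (hCK : Subgroup.centralizer (Q : Set H) ≤ K) {η₁ η₂ : IrrCharacter H} {θ₁ θ₂ : IrrCharacter K}
    (h₁ : classInner (fun n : K => (η₁ : H → ℂ) n) (θ₁ : K → ℂ) ≠ 0)
    (h₂ : classInner (fun n : K => (η₂ : H → ℂ) n) (θ₂ : K → ℂ) ≠ 0)
    (hs : SameBlock M (θ₁ : K → ℂ) (θ₂ : K → ℂ)) : SameBlock M (η₁ : H → ℂ) (η₂ : H → ℂ) := by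
  have i₁ := isInducedBlock_of_over hM hQ hCK (isPBlock_blockOf η₁) (SameBlock_refl hM _) h₁
  have i₂ := isInducedBlock_of_over hM hQ hCK (isPBlock_blockOf η₂) (SameBlock_refl hM _) h₂
  rw [blockOf_eq_of_sameBlock hM hs] at i₁
  have h := IsInducedBlock.unique hM i₁ i₂
  have h' : η₂ ∈ blockOf M (η₁ : H → ℂ) := by rw [h]; exact SameBlock_refl hM _
  exact mem_blockOf.1 h'

variable {G : Type*} [Group G] [Fintype G] {D : Subgroup G} [D.Normal]

/-- A pair of `B` at `D` and a pair of the quotient block with compatible stabilizers. -/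
theorem exists_pair_stab [Fact p.Prime] [Fintype (G ⧸ ⁅D, D⁆)] (hM : IsPModular p M)
    (hD : IsPGroup p D) {B : Set (IrrCharacter G)} (hB : IsPBlock M B)
    {b : Set (IrrCharacter (G ⧸ ⁅D, D⁆))} (hb : IsPBlock M b)
    (hsub : ∀ ψ ∈ b, inflate ⁅D, D⁆ ψ ∈ B) :
    ∃ (e : Set (IrrCharacter (Subgroup.centralizer (D : Set G))))
      (f : Set (IrrCharacter (Subgroup.centralizer
        ((D.map (QuotientGroup.mk' ⁅D, D⁆) : Subgroup (G ⧸ ⁅D, D⁆)) : Set (G ⧸ ⁅D, D⁆))))),
      IsBrauerPairOf p M B D e ∧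
        IsBrauerPairOf p M b (D.map (QuotientGroup.mk' ⁅D, D⁆)) f ∧
        ∀ t ∈ pairStab D e, QuotientGroup.mk' ⁅D, D⁆ t
          ∈ pairStab (D.map (QuotientGroup.mk' ⁅D, D⁆)) f := by
  set π := QuotientGroup.mk' ⁅D, D⁆ with hπdef
  set Db := D.map π
  haveI hDbn : Db.Normal :=
    Subgroup.Normal.map inferInstance _ (QuotientGroup.mk'_surjective _)
  set C := Subgroup.centralizer (D : Set G)
  set Cb := Subgroup.centralizer (Db : Set (G ⧸ ⁅D, D⁆))
  haveI hCn : C.Normal := ⟨fun x hx g =>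
    mem_centralizer_conj (by rw [Subgroup.normalizer_eq_top]; exact Subgroup.mem_top g) hx⟩
  haveI hCbn : Cb.Normal := ⟨fun x hx g =>
    mem_centralizer_conj (by rw [Subgroup.normalizer_eq_top]; exact Subgroup.mem_top g) hx⟩
  have hDbp : IsPGroup p Db := hD.map π
  have hCmap : ∀ c : G, c ∈ C → π c ∈ Cb := fun c hc => by
    refine Subgroup.mem_centralizer_iff.2 ?_
    rintro _ ⟨x, hx, rfl⟩
    rw [← map_mul, ← map_mul, Subgroup.mem_centralizer_iff.1 hc x hx]
  let j : C →* Cb := (π.comp C.subtype).codRestrict Cb fun c => hCmap _ c.2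
  -- constituents
  obtain ⟨ψ, hψ⟩ := IsPBlock.nonempty hM hb
  obtain ⟨θ, hθ⟩ := exists_over (N := C) (inflate ⁅D, D⁆ ψ)
  obtain ⟨η, hη, hηθ⟩ : ∃ η : IrrCharacter Cb,
      classInner (fun n : Cb => (ψ : G ⧸ ⁅D, D⁆ → ℂ) n) (η : Cb → ℂ) ≠ 0 ∧
        classInner (fun c : C => (η : Cb → ℂ) (j c)) (θ : C → ℂ) ≠ 0 := by
    by_contra hno
    push Not at hno
    refine hθ ?_
    have he := CfsgLib.Char.IsClassFunction.eq_sum_irr
      (CfsgLib.Char.IsCharacter.isClassFunction
        (CfsgLib.Char.IsCharacter.restrict (CfsgLib.Char.isCharacter_irr ψ) Cb))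
    have hv : ∀ c : C, (inflate ⁅D, D⁆ ψ : G → ℂ) c
        = ∑ η : IrrCharacter Cb, classInner (fun n : Cb => (ψ : G ⧸ ⁅D, D⁆ → ℂ) n) (η : Cb → ℂ)
            * (η : Cb → ℂ) (j c) := fun c => by
      have h1 := congrFun he (j c)
      simp only [Finset.sum_apply, Pi.smul_apply, smul_eq_mul] at h1
      exact h1
    have hlin : ∀ (a : IrrCharacter Cb → ℂ) (g : IrrCharacter Cb → C → ℂ),
        classInner (fun c : C => ∑ η, a η * g η c) (θ : C → ℂ)
          = ∑ η, a η * classInner (g η) (θ : C → ℂ) := fun a g => by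
      simp only [Cfsg.classInner, Finset.sum_mul, Finset.mul_sum]
      rw [Finset.sum_comm]
      exact Finset.sum_congr rfl fun _ _ => Finset.sum_congr rfl fun _ _ => by ring
    rw [funext hv, hlin]
    refine Finset.sum_eq_zero fun η _ => ?_
    rcases eq_or_ne (classInner (fun n : Cb => (ψ : G ⧸ ⁅D, D⁆ → ℂ) n) (η : Cb → ℂ)) 0 with hη | hη
    · rw [hη, zero_mul]
    · rw [hno η hη, mul_zero]
  have he : IsBrauerPairOf p M B D (blockOf M (θ : C → ℂ)) :=
    (isBrauerPairOf_iff_induced hM hD (isPBlock_blockOf θ)).2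
      (isInducedBlock_of_over hM hD le_rfl hB (hsub ψ hψ) hθ)
  have hf : IsBrauerPairOf p M b Db (blockOf M (η : Cb → ℂ)) :=
    (isBrauerPairOf_iff_induced hM hDbp (isPBlock_blockOf η)).2
      (isInducedBlock_of_over hM hDbp le_rfl hb hψ hη)
  refine ⟨_, _, he, hf, ?_⟩
  -- conjugates of `η` by the stabilizer stay in its block
  suffices key : ∀ t ∈ pairStab D (blockOf M (θ : C → ℂ)),
      conjIrr (π t) η ∈ blockOf M (η : Cb → ℂ) by
    intro t ht
    refine (mem_pairStab _).2 ⟨by rw [Subgroup.normalizer_eq_top]; exact Subgroup.mem_top _,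
      by rw [Subgroup.normalizer_eq_top]; exact Subgroup.mem_top _, fun χ hχ => ?_⟩
    refine ⟨conjIrr (π t)⁻¹ χ, ?_, fun k k' hk => ?_⟩
    · have h1 := key t⁻¹ (Subgroup.inv_mem _ ht)
      rw [map_inv] at h1
      exact mem_blockOf.2 (SameBlock_trans hM (mem_blockOf.1 h1)
        (conjIrr_sameBlock _ (mem_blockOf.1 hχ)))
    · show conjFun Cb (π t)⁻¹ (χ : Cb → ℂ) k' = _
      rw [conjFun_apply]
      refine congrArg (χ : Cb → ℂ) (Subtype.ext ?_)
      show (π t)⁻¹ * (k' : G ⧸ ⁅D, D⁆) * (π t)⁻¹⁻¹ = _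
      rw [hk]; group
  intro t ht
  have hθt : conjIrr t θ ∈ blockOf M (θ : C → ℂ) := by
    obtain ⟨χ', hχ', hc⟩ := ((mem_pairStab _).1 (Subgroup.inv_mem _ ht)).2.2 θ (SameBlock_refl hM _)
    have e1 : conjIrr t⁻¹ χ' = θ := Subtype.ext (funext fun k => by
      show conjFun C t⁻¹ (χ' : C → ℂ) k = _
      rw [conjFun_apply]
      exact hc k _ (by simp))
    rwa [show conjIrr t θ = χ' by rw [← e1, conjIrr_mul, inv_mul_cancel, conjIrr_one]]
  set L : Subgroup G := Cb.comap π
  haveI : L.Normal := Subgroup.Normal.comap inferInstance _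
  have hDL : D ≤ L := fun x hx => by
    refine Subgroup.mem_centralizer_iff.2 ?_
    rintro _ ⟨y, hy, rfl⟩
    rw [← map_mul, ← map_mul]
    exact QuotientGroup.eq.2 (by
      have := Subgroup.commutator_mem_commutator (Subgroup.inv_mem _ hx) (Subgroup.inv_mem _ hy)
      simpa [commutatorElement_def, mul_assoc] using this)
  have hCL : C ≤ L := fun c hc => hCmap c hc
  let πL : L →* Cb := (π.comp L.subtype).codRestrict Cb fun x => x.2
  have hsurj : Function.Surjective πL := fun y => by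
    obtain ⟨x, hx⟩ := QuotientGroup.mk'_surjective ⁅D, D⁆ (y : G ⧸ ⁅D, D⁆)
    exact ⟨⟨x, show π x ∈ Cb by rw [hπdef, hx]; exact y.2⟩, Subtype.ext hx⟩
  let iso : L ⧸ πL.ker ≃* Cb := QuotientGroup.quotientKerEquivOfSurjective πL hsurj
  let ηL : IrrCharacter Cb → IrrCharacter L := fun ξ =>
    ⟨(ξ : Cb → ℂ) ∘ πL, CfsgLib.Char.IsIrrCharacter.comp_surjective ξ.2 πL hsurj⟩
  haveI hDLn : (D.subgroupOf L).Normal := Subgroup.Normal.comap inferInstance _
  haveI hCLn : (C.subgroupOf L).Normal := Subgroup.Normal.comap inferInstance _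
  let ic : (C.subgroupOf L) ≃* C := Subgroup.subgroupOfEquivOfLe hCL
  have hDLp : IsPGroup p (D.subgroupOf L) := hD.of_injective
    (Subgroup.subgroupOfEquivOfLe hDL).toMonoidHom (Subgroup.subgroupOfEquivOfLe hDL).injective
  have hres : ∀ (ξ : IrrCharacter Cb) (φ : IrrCharacter C),
      classInner (fun n : C.subgroupOf L => (ηL ξ : L → ℂ) n) (irrRelabel ic φ : C.subgroupOf L → ℂ)
        = classInner (fun c : C => (ξ : Cb → ℂ) (j c)) (φ : C → ℂ) := fun ξ φ => by
    rw [Cfsg.classInner, Cfsg.classInner, Nat.card_congr ic.toEquiv]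
    congr 1
    exact Fintype.sum_equiv ic.toEquiv _ _ fun n => rfl
  have hconj : classInner (fun c : C => (conjIrr (π t) η : Cb → ℂ) (j c)) (conjIrr t θ : C → ℂ)
      = classInner (fun c : C => (η : Cb → ℂ) (j c)) (θ : C → ℂ) := by
    rw [Cfsg.classInner, Cfsg.classInner]
    congr 1
    refine Fintype.sum_equiv (MulAut.conjNormal t : MulAut C).toEquiv _ _ fun c => ?_
    show conjFun Cb (π t) (η : Cb → ℂ) (j c) * conj (conjFun C t (θ : C → ℂ) c) = _
    rw [conjFun_apply, conjFun_apply]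
    congr 2
  have h1 : SameBlock M (ηL η : L → ℂ) (ηL (conjIrr (π t) η) : L → ℂ) := by
    refine sameBlock_of_over_centralizer hM (Q := D.subgroupOf L) hDLp (K := C.subgroupOf L)
      (fun x hx => ?_) (θ₁ := irrRelabel ic θ) (θ₂ := irrRelabel ic (conjIrr t θ))
      (by rw [hres]; exact hηθ) (by rw [hres, hconj]; exact hηθ)
      (sameBlock_irrRelabel ic (mem_blockOf.1 hθt))
    exact Subgroup.mem_subgroupOf.2 (Subgroup.mem_centralizer_iff.2 fun y hy =>
      congrArg Subtype.val (Subgroup.mem_centralizer_iff.1 hx ⟨y, hDL hy⟩ hy))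
  have hkerD : πL.ker ≤ D.subgroupOf L := fun x hx => by
    have : π (x : G) = 1 := congrArg Subtype.val (MonoidHom.mem_ker.1 hx)
    exact Subgroup.mem_subgroupOf.2
      ((Subgroup.commutator_le_left D D) ((QuotientGroup.eq_one_iff _).1 this))
  have hlift : ∀ s : L, ¬ p ∣ orderOf s → QuotientGroup.mk' πL.ker s ∈ Subgroup.centralizer
      (((D.subgroupOf L).map (QuotientGroup.mk' πL.ker) : Subgroup (L ⧸ πL.ker)) : Set (L ⧸ πL.ker)) →
      s ∈ Subgroup.centralizer (D.subgroupOf L : Set L) := fun s hs _ => by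
    refine Subgroup.mem_centralizer_iff.2 fun y hy => Subtype.ext ?_
    exact Subgroup.mem_centralizer_iff.1
      (lift_derived hD (by rwa [Subgroup.orderOf_coe]) s.2) (y : G) hy
  letI : Fintype (L ⧸ πL.ker) := Fintype.ofFinite _
  have h2 : SameBlock M (irrRelabel iso η : L ⧸ πL.ker → ℂ)
      (irrRelabel iso (conjIrr (π t) η) : L ⧸ πL.ker → ℂ) :=
    (sameBlock_inflate_iff_of_lift hM (hDLp.to_le hkerD) hkerD hDLp hlift _ _).2 h1
  refine mem_blockOf.2 fun y => ?_
  obtain ⟨x, rfl⟩ := iso.surjective y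
  rw [← centralChar_irrRelabel iso η x, ← centralChar_irrRelabel iso (conjIrr (π t) η) x]
  exact h2 x

end CfsgLib.Blocks.EqualDegree
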