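import Cfsg.Agent.Lib.Blocks.EqualDegree.Congruence
import Cfsg.Agent.Lib.Blocks.EqualDegree.Cartan
import Cfsg.Agent.Lib.BrauerPairs.Maximal
import Cfsg.Agent.Lib.BrauerPairs.Nilpotent
import Cfsg.Agent.Lib.BrouePuig.AbelianCount
import Cfsg.Agent.Lib.BrouePuig.Nilpotent
import Cfsg.Agent.Lib.Char.Linear

/-!
# Equal degrees in a block with abelian defect group and all heights zero

The congruence makes the Cartan matrices of all the blocks below divisible by the order of the defect
group, so each of them has one simple module.  Counting the characters of the block by the elements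
of the defect group then shows that the stabilizer of a maximal pair centralizes the defect group.
-/

set_option autoImplicit false
set_option linter.unusedSectionVars false
set_option maxHeartbeats 1000000
set_option synthInstance.maxHeartbeats 200000

namespace CfsgLib.Blocks.EqualDegree

open Cfsg CfsgLib.Blocks CfsgLib.Blocks.ResidueAlgebra CfsgLib.BrouePuig CfsgLib.BrauerPairs
  CfsgLib.Blocks.BrauerDegree
open scoped Classical

universe u

variable {p : ℕ} [Fact p.Prime] {M : Ideal AlgInt} {G : Type u} [Group G] [Fintype G]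
  {B : Set (IrrCharacter G)} {d : ℕ} {P : Subgroup G}
  {e : Set (IrrCharacter (Subgroup.centralizer (P : Set G)))}

theorem blockRank_bel_le_one (hM : IsPModular p M) (h : EqDeg p M B d)
    (hmax : IsMaximalBrauerPair p M B P e) (w : P) :
    blockRank p (bel hM hmax.1.1 w).2 ≤ 1 := by
  set a := bel hM hmax.1.1 w
  have ha : IsElemOf p M B a := isElemOf_of_below hM hmax (bel_below hM hmax.1.1 w)
  have hu : ∃ k : ℕ, orderOf a.1 = p ^ k := (mem_elems.1 (IsElemOf.mem hM.1 ha)).1
  have hind := (isBrauerPairOf_iff_induced hM ha.1.1 ha.1.2).1 ha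
  refine blockRank_le_one_of_dvd hM ha.1.2 (S := sectionSet M (cenZ a.1) B) (fun ψ hψ => ?_)
    (blockDefect_le_of_induced hM hind) fun y y' hy hy' => ?_
  · show IsInducedBlock M (cenZ a.1) (blockOf M (ψ : cenZ a.1 → ℂ)) B
    rw [← IsPBlock.eq_blockOf hM ha.1.2 hψ]
    exact hind
  · rw [← sum_block_section hM (centralizer_zpowers a.1) hu h.blk hy' hy]
    obtain ⟨c, hc, e⟩ := exists_sum_mul_eq hM h (a.1 * (y' : G)) (a.1 * (y : G))⁻¹
    refine ⟨c, hc, ?_⟩
    rw [← e, ← Finset.sum_subset (Finset.subset_univ B.toFinset) fun χ _ hχ => by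
      rw [blockInd_of_notMem fun hm => hχ (Set.mem_toFinset.2 hm), zero_mul]]
    exact Finset.sum_congr rfl fun χ hχ => by rw [blockInd_of_mem (Set.mem_toFinset.1 hχ), one_mul]

/-- The stabilizer of a maximal pair centralizes its group. -/
theorem stab_le_centralizer (hM : IsPModular p M) (h : EqDeg p M B d)
    (hmax : IsMaximalBrauerPair p M B P e) (hab : ∀ x ∈ P, ∀ y ∈ P, x * y = y * x) :
    pairStab P e ≤ Subgroup.centralizer (P : Set G) := by
  obtain ⟨D⟩ := nonempty_dec hM G
  obtain ⟨-, -, -, -, hk⟩ := exists_simple D h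
  have hcard : Nat.card B = Nat.card P :=
    hk.trans (card_defectGroup hM h.blk (isDefectGroup_of_isMaximal hM hmax)).symm
  have heq := card_block_eq hM hmax hab
  rw [hcard] at heq
  have heq' : Nat.card P * Nat.card (pairStab P e)
      = ∑ w : P, Nat.card (pairStab P e ⊓ Subgroup.centralizer ({(w : G)} : Set G) : Subgroup G)
          * blockRank p (bel hM hmax.1.1 w).2 := by exact_mod_cast heq
  have hle : ∀ w ∈ (Finset.univ : Finset P),
      Nat.card (pairStab P e ⊓ Subgroup.centralizer ({(w : G)} : Set G) : Subgroup G)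
        * blockRank p (bel hM hmax.1.1 w).2 ≤ Nat.card (pairStab P e) := fun w _ =>
    (Nat.mul_le_mul (Subgroup.card_le_of_le inf_le_left) (blockRank_bel_le_one hM h hmax w)).trans
      (mul_one _).le
  have hall := (Finset.sum_eq_sum_iff_of_le hle).1 (by
    rw [← heq', Finset.sum_const, Finset.card_univ, smul_eq_mul, Fintype.card_eq_nat_card])
  intro t ht
  refine Subgroup.mem_centralizer_iff.2 fun w hw => ?_
  have h1 := hall ⟨w, hw⟩ (Finset.mem_univ _)
  have h2 : Nat.card (pairStab P e) ≤ Nat.card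
      (pairStab P e ⊓ Subgroup.centralizer ({w} : Set G) : Subgroup G) :=
    h1.ge.trans ((Nat.mul_le_mul le_rfl (blockRank_bel_le_one hM h hmax ⟨w, hw⟩)).trans (mul_one _).le)
  have h3 := Subgroup.eq_of_le_of_card_ge (inf_le_left :
    pairStab P e ⊓ Subgroup.centralizer ({w} : Set G) ≤ pairStab P e) h2
  rw [← h3] at ht
  exact (Subgroup.mem_centralizer_singleton_iff.1 ht.2).symm

/-- Equal degrees force nilpotency. -/
theorem isNilpotent_of_eqDeg (hM : IsPModular p M) (h : EqDeg p M B d)
    (hmax : IsMaximalBrauerPair p M B P e) (hab : ∀ x ∈ P, ∀ y ∈ P, x * y = y * x) :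
    IsNilpotentBlock p M B := by
  refine isNilpotent_of_local hM hmax fun Q f hle x hx _ => ?_
  obtain ⟨y, hy, c, hc, rfl⟩ := exists_factor_abelian hM hmax hab hle hx
  exact Subgroup.mul_mem _
    (Subgroup.centralizer_le (subgroup_le_of_subpairLE hle) (stab_le_centralizer hM h hmax hab hy)) hc

/-- In a nilpotent block with abelian defect group all degrees are equal. -/
theorem exists_deg_of_nilpotent (hM : IsPModular p M) (hnil : IsNilpotentBlock p M B)
    (hmax : IsMaximalBrauerPair p M B P e) (hab : ∀ x ∈ P, ∀ y ∈ P, x * y = y * x) :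
    ∃ d : ℕ, ∀ χ ∈ B, charDegree (χ : G → ℂ) = d := by
  obtain ⟨χ₀, -, -, Φ, hΦ⟩ := exists_param hM hnil hmax
  refine ⟨charDegree (χ₀ : G → ℂ), fun χ hχ => ?_⟩
  obtain ⟨ζ, hζ⟩ := Φ.surjective ⟨χ, hχ⟩
  have hv : (χ : G → ℂ) 1 = (χ₀ : G → ℂ) 1 := by
    have h1 := hΦ ζ 1 (by rw [orderOf_one]; exact hM.1.not_dvd_one)
    rw [hζ] at h1
    have h2 : (ζ : P → ℂ) 1 = 1 := Char.apply_one_eq_one_of_comm
      (fun a b => Subtype.ext (hab a a.2 b b.2)) ζ.2
    rw [h1, h2, one_mul]
  rw [irr_one_eq, irr_one_eq] at hv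
  exact_mod_cast hv

end CfsgLib.Blocks.EqualDegree
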