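import Cfsg.Agent.Lib.Blocks.EqualDegree.Main
import Cfsg.Agent.Lib.Blocks.EqualDegree.DerivedPairs
import Cfsg.Agent.Lib.Blocks.QuotientDefect

/-!
# Equal height-zero degrees in a block with normal defect group

Passing to the quotient by the derived subgroup of the defect group reduces to the abelian case.  A
block with normal defect group is nilpotent as soon as the regular elements of the stabilizer of a
maximal pair centralize the defect group, because every automizer of a proper subgroup extends.
-/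

set_option autoImplicit false
set_option linter.unusedSectionVars false
set_option maxHeartbeats 1000000
set_option synthInstance.maxHeartbeats 200000

namespace CfsgLib.Blocks.EqualDegree

open Cfsg CfsgLib.Blocks CfsgLib.BrauerPairs CfsgLib.BrouePuig
open scoped Classical

variable {p : ℕ} [Fact p.Prime] {M : Ideal AlgInt} {G : Type*} [Group G] [Fintype G]
  {B : Set (IrrCharacter G)} {P : Subgroup G} [P.Normal]
  {e : Set (IrrCharacter (Subgroup.centralizer (P : Set G)))}

/-- A block with normal defect group whose stabilizer acts as a `p`-group is nilpotent. -/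
theorem isNilpotent_of_normal (hM : IsPModular p M) (hmax : IsMaximalBrauerPair p M B P e)
    (h : ∀ t ∈ pairStab P e, IsPRegular p t → t ∈ Subgroup.centralizer (P : Set G)) :
    IsNilpotentBlock p M B := by
  have hP : IsPGroup p P := hmax.1.1.1
  have hF := isBlockFusionSystemOn_blockFusion hM hmax
  set F := blockFusion hM hmax.1.1
  have hsat := isSaturated_block hM hF
  have hPn : F.IsFullyNormalized P := by
    obtain ⟨R', hR', hn⟩ := CfsgLib.Fsys.exists_fullyNormalized (F := F) (le_refl P)
    rwa [CfsgLib.Fsys.eq_of_le_of_card le_rfl hn.1 (CfsgLib.Fsys.isConj_card hR').ge] at hn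
  have hle : SubpairLE p M P e P e := Relation.ReflTransGen.refl
  have htop : F.autGroup P ≤ autInducedBy P P := by
    obtain ⟨-, R, hR⟩ := fullyAutomized_of_normalized hM hF hle hPn
    intro α hα
    have hA : IsPGroup p (F.autGroup P) := by
      rw [autGroup_eq hM hF hle mem_pairStab]
      rintro ⟨β, hβ⟩
      obtain ⟨t, ht, hβt⟩ := CfsgLib.Fsys.mem_autInducedBy.1 hβ
      refine ⟨(orderOf t).factorization p, Subtype.ext ?_⟩
      have hreg : IsPRegular p (t ^ p ^ (orderOf t).factorization p) := by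
        rw [IsPRegular, orderOf_pow' t (pow_ne_zero _ hM.1.ne_zero),
          Nat.gcd_eq_right (Nat.ordProj_dvd _ _)]
        exact Nat.not_dvd_ordCompl hM.1 (orderOf_pos t).ne'
      have hc := h _ (Subgroup.pow_mem _ ht (p ^ (orderOf t).factorization p)) hreg
      have key : ∀ n : ℕ, ∀ x : P, (((β ^ n) x : P) : G) = t ^ n * (x : G) * (t ^ n)⁻¹ := by
        intro n
        induction n with
        | zero => intro x; simp
        | succ n ih =>
          intro x
          rw [pow_succ, MulAut.mul_apply, ih, hβt, pow_succ]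
          group
      refine MulEquiv.ext fun x => Subtype.ext ?_
      show (((β ^ p ^ _) x : P) : G) = x
      rw [key, ← Subgroup.mem_centralizer_iff.1 hc x x.2, mul_inv_cancel_right]
    have htop : IsPGroup p (⊤ : Subgroup (F.autGroup P)) := fun x => by
      obtain ⟨k, hk⟩ := hA x
      exact ⟨k, Subtype.ext (Subtype.ext (by simpa using congrArg Subtype.val hk))⟩
    have h2 := R.is_maximal' htop le_top
    have h1 : (⟨α, hα⟩ : F.autGroup P) ∈ (⊤ : Subgroup (F.autGroup P)) := Subgroup.mem_top _
    rw [h2, hR] at h1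
    exact h1
  have hle' : F ≤ innerFusionSystem P := by
    refine CfsgLib.Fsys.le_of_automizers hP hsat _
      (htop.trans (CfsgLib.Fsys.autInducedBy_le_autGroup le_rfl)) fun R hR hRn hbig => ?_
    intro α hα
    obtain ⟨n, hn, hnR⟩ := SetLike.exists_of_lt (CfsgLib.Fsys.lt_normalizerIn hP hR)
    obtain ⟨f, hfle, -⟩ := existsUnique_below hM hmax.1.1 hR.le
    have hα' := hα
    rw [autGroup_eq hM hF hfle mem_pairStab] at hα'
    obtain ⟨x, hx, hαx⟩ := CfsgLib.Fsys.mem_autInducedBy.1 hα'
    have hconj : α * CfsgLib.Fsys.conjAut R hn.2 * α⁻¹ ∈ autInducedBy P R := by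
      refine CfsgLib.Fsys.mem_autInducedBy.2
        ⟨x * n * x⁻¹, Subgroup.Normal.conj_mem inferInstance n hn.1 x, fun r => ?_⟩
      obtain ⟨s, rfl⟩ := α.surjective r
      simp only [MulAut.mul_apply, MulAut.inv_apply_self]
      rw [hαx, CfsgLib.Fsys.conjAut_coe, hαx]
      group
    obtain ⟨Q, g, hRQ, hg, hgα⟩ := CfsgLib.Fsys.extAut_of_receptive
      (CfsgLib.Fsys.fullyNormalized_receptive hP hsat hRn) hα hn hnR hconj
    have hgE := hbig Q g (by
      simpa only [SetLike.coe_sort_coe] using Set.Finite.card_lt_card (Set.toFinite (Q : Set G)) hRQ) hg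
    exact (CfsgLib.Fsys.mem_autGroup hR.le).2
      (CfsgLib.Fsys.mem_hom_of_fn (hgE.mono hRQ.le) fun y => (hgα y).symm)
  refine isNilpotent_of_inner hM hF fun R => Set.Subset.antisymm (hle' R) fun φ hφ => ?_
  obtain ⟨hR, g, hg, hgφ⟩ := hφ
  rw [show φ = conjHom R g from MonoidHom.ext fun x => hgφ x]
  exact F.conj_mem hR hg

/-- Equal degrees of the height-zero characters force nilpotency. -/
theorem isNilpotent_of_normal_eqDeg (hM : IsPModular p M) (hB : IsPBlock M B)
    (hP : IsDefectGroup p M B P) {d : ℕ}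
    (hdeg : ∀ χ ∈ B, degVal p χ = minDegVal p B → charDegree (χ : G → ℂ) = d) :
    IsNilpotentBlock p M B := by
  have hPp := isPGroup_defectGroup hP
  set N : Subgroup G := ⁅P, P⁆
  have hNP : N ≤ P := Subgroup.commutator_le_left P P
  haveI : Fintype (G ⧸ N) := Fintype.ofFinite _
  obtain ⟨b, hb, hsub, hbdef⟩ := QuotientDefect.exists_block_map_eq hM (hPp.to_le hNP) hB
  set Pb := P.map (QuotientGroup.mk' N) with hPb
  haveI : Pb.Normal := Subgroup.Normal.map inferInstance _ (QuotientGroup.mk'_surjective _)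
  have hbP : IsDefectGroup p M b Pb := (hbdef Pb).2 ⟨P, hP, rfl⟩
  have hab : ∀ x ∈ Pb, ∀ y ∈ Pb, x * y = y * x := by
    rintro _ ⟨x, hx, rfl⟩ _ ⟨y, hy, rfl⟩
    rw [← map_mul, ← map_mul]
    exact QuotientGroup.eq.2 (by
      have := Subgroup.commutator_mem_commutator (Subgroup.inv_mem _ hy) (Subgroup.inv_mem _ hx)
      simpa [commutatorElement_def, mul_assoc] using this)
  have hmin : minDegVal p b = minDegVal p B := by
    rw [minDegVal_eq_of_defectGroup hM hB hP, minDegVal_eq_of_defectGroup hM hb hbP, hPb,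
      Subgroup.index_map_eq _ (QuotientGroup.mk'_surjective _) (by rwa [QuotientGroup.ker_mk'])]
  have hh : ∀ ψ ∈ b, degVal p ψ = minDegVal p b :=
    (comm_iff_heights hM hb hbP).1 fun x y => Subtype.ext (hab x x.2 y y.2)
  have hEq : EqDeg p M b d := ⟨hb, fun ψ hψ => by
    have h1 := hdeg _ (hsub ψ hψ) (by rw [degVal_inflate, hh ψ hψ, hmin])
    rwa [charDegree, inflate_apply, map_one] at h1, hh⟩
  obtain ⟨e, f, he, hf, hstab⟩ := exists_pair_stab hM hPp hB hb hsub
  have hmax := isMaximal_of_defectGroup hM hP he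
  have hcore := stab_le_centralizer hM hEq (isMaximal_of_defectGroup hM hbP hf) hab
  exact isNilpotent_of_normal hM hmax fun t ht hreg => lift_derived hPp hreg (hcore (hstab t ht))

/-- In a nilpotent block the characters of height zero have one degree. -/
theorem exists_deg_height_zero {Q : Subgroup G}
    {f : Set (IrrCharacter (Subgroup.centralizer (Q : Set G)))} (hM : IsPModular p M)
    (hnil : IsNilpotentBlock p M B) (hmax : IsMaximalBrauerPair p M B Q f) :
    ∃ d : ℕ, ∀ χ ∈ B, degVal p χ = minDegVal p B → charDegree (χ : G → ℂ) = d := by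
  obtain ⟨χ₀, -, h0, Φ, hΦ⟩ := exists_param hM hnil hmax
  refine ⟨charDegree (χ₀ : G → ℂ), fun χ hχ hh => ?_⟩
  obtain ⟨ζ, hζ⟩ := Φ.surjective ⟨χ, hχ⟩
  have h1 := hΦ ζ 1 (by rw [orderOf_one]; exact hM.1.not_dvd_one)
  rw [hζ, irr_one_eq, irr_one_eq, irr_one_eq] at h1
  have h2 : charDegree (χ : G → ℂ) = charDegree (ζ : Q → ℂ) * charDegree (χ₀ : G → ℂ) := by
    exact_mod_cast h1
  have h3 : (charDegree (ζ : Q → ℂ)).factorization p = 0 := by
    have h4 : degVal p χ = (charDegree (ζ : Q → ℂ)).factorization p + degVal p χ₀ := by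
      rw [degVal, h2, Nat.factorization_mul (charDegree_pos ζ).ne' (charDegree_pos χ₀).ne',
        Finsupp.add_apply, degVal]
    omega
  obtain ⟨k, hk⟩ := IsPGroup.iff_card.1 hmax.1.1.1
  obtain ⟨i, -, hi⟩ := (Nat.dvd_prime_pow hM.1).1 (hk ▸ charDegree_dvd ζ)
  rw [hi, Nat.Prime.factorization_pow hM.1, Finsupp.single_eq_same] at h3
  rw [h2, hi, h3, pow_zero, one_mul]

end CfsgLib.Blocks.EqualDegree
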