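import Cfsg.Agent.Lib.Blocks.BrauerDegree.Count
import Cfsg.Agent.Lib.Blocks.RankOneFrame

/-!
# Blocks in which all degrees are equal and all heights are zero

Such a block has one simple module, all decomposition numbers are one, there are as many characters
as elements in a defect group, and the corner of the block algebra is commutative.
-/

set_option autoImplicit false
set_option linter.unusedSectionVars false
set_option maxHeartbeats 1000000
set_option synthInstance.maxHeartbeats 200000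

namespace CfsgLib.Blocks.EqualDegree

open Cfsg CfsgLib.Blocks CfsgLib.Blocks.ResidueAlgebra CfsgLib.Blocks.TwoCharacters CfsgLib.BrouePuig
  CfsgLib.Blocks.BrauerDegree
open scoped Classical
open LinearMap (mulLeft mulRight)

universe u

variable {p : ℕ} [Fact p.Prime] {M : Ideal AlgInt} {hM : IsPModular p M} {G : Type u} [Group G]
  [Fintype G]

/-- A block in which all characters have the degree `d` and height zero. -/
structure EqDeg (p : ℕ) (M : Ideal AlgInt) (B : Set (IrrCharacter G)) (d : ℕ) : Prop where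
  blk : IsPBlock M B
  deg : ∀ χ ∈ B, charDegree (χ : G → ℂ) = d
  height : ∀ χ ∈ B, degVal p χ = minDegVal p B

variable {B : Set (IrrCharacter G)} {d : ℕ}

theorem EqDeg.pos (hM : IsPModular p M) (h : EqDeg p M B d) : 0 < d := by
  obtain ⟨χ, hχ⟩ := IsPBlock.nonempty hM h.blk
  rw [← h.deg χ hχ]
  exact charDegree_pos χ

theorem EqDeg.factorization_add (hM : IsPModular p M) (h : EqDeg p M B d) :
    blockDefect p B + d.factorization p = (Nat.card G).factorization p := by
  obtain ⟨χ, hχ⟩ := IsPBlock.nonempty hM h.blk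
  have hv : degVal p χ = d.factorization p := by rw [degVal, h.deg χ hχ]
  rw [← blockDefect_add_min (p := p) (IsPBlock.nonempty hM h.blk), ← h.height χ hχ, hv]

theorem regInner_eq_mult (D : Dec hM G) (ψ : IrrCharacter G) (i : Fin D.r) :
    ∑ χ : IrrCharacter G, (mult D χ i : ℂ) * regInner p (χ : G → ℂ) (ψ : G → ℂ)
      = (pPartCard p G : ℂ) * (mult D ψ i : ℂ) := by
  have h1 := coeff_eq_of_sum_eq (c := fun χ => (mult D χ i : ℂ)) (θ := theta D i) (fun _ => rfl) ψ
  rw [h1, ← Finset.sum_filter_of_ne (p := fun y : G => IsPRegular p y) (fun y _ hy => by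
    by_contra hr
    exact hy (by rw [theta_eq_zero_of_dvd D i (not_isPRegular.1 hr), zero_mul]))]
  simp only [theta, regInner, Finset.mul_sum, Finset.sum_mul]
  rw [Finset.sum_comm]
  exact Finset.sum_congr rfl fun x _ => Finset.sum_congr rfl fun χ _ => by ring

/-- One simple module, all decomposition numbers one, `p ^ defect` characters. -/
theorem exists_simple (D : Dec hM G) (h : EqDeg p M B d) :
    ∃ i₀ : Fin D.r, D.π (idem hM B) = Pi.single i₀ 1 ∧ D.d i₀ = d ∧
      (∀ ψ ∈ B, mult D ψ i₀ = 1) ∧ Nat.card B = p ^ blockDefect p B := by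
  have hB := h.blk
  have h01 := eq_zero_or_one D.dne D.surj (fun a => idem_commute hM a) (idem_mul_self hM hB)
  set I := Finset.univ.filter fun i => D.π (idem hM B) i = 1 with hI
  have memI : ∀ i, i ∈ I ↔ D.π (idem hM B) i = 1 := fun i => by simp [hI]
  have hdvd : ∀ i ∈ I, d ∣ D.d i := fun i hi =>
    dvd_dim D hB ((memI i).1 hi) fun χ hχ => dvd_of_eq (h.deg χ hχ).symm
  have hsum : ∀ χ ∈ B, ∑ i ∈ I, D.d i * mult D χ i = d := fun χ hχ => by
    have h1 := apply_one_eq D χ
    rw [irr_one_eq, h.deg χ hχ] at h1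
    have h' : d = ∑ i, D.d i * mult D χ i := by exact_mod_cast h1
    conv_rhs => rw [h']
    refine Finset.sum_subset (Finset.subset_univ _) fun i _ hi => ?_
    rw [mult_eq_zero D hB χ i fun hiff => hi ((memI i).2 (hiff.1 hχ)), mul_zero]
  have hone : ∀ χ ∈ B, ∀ i ∈ I, mult D χ i ≠ 0 →
      mult D χ i = 1 ∧ D.d i = d ∧ ∀ j ∈ I, j ≠ i → mult D χ j = 0 := by
    intro χ hχ i hi hne
    have hs := hsum χ hχ
    rw [← Finset.add_sum_erase _ _ hi] at hs
    obtain ⟨c, hc⟩ := hdvd i hi
    have hd0 := h.pos hM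
    have hdi : D.d i ≠ 0 := NeZero.ne _
    have h1 : d ≤ D.d i := Nat.le_of_dvd (Nat.pos_of_ne_zero hdi) (hdvd i hi)
    have h2 : D.d i ≤ D.d i * mult D χ i := Nat.le_mul_of_pos_right _ (Nat.pos_of_ne_zero hne)
    have h3 : D.d i * mult D χ i = d := by omega
    have h4 : D.d i = d := by omega
    refine ⟨Nat.eq_of_mul_eq_mul_left (h.pos hM) ?_, h4, fun j hj hji => ?_⟩
    · rw [mul_one]
      conv_rhs => rw [← h3, h4]
    · have h5 : ∑ x ∈ I.erase i, D.d x * mult D χ x = 0 := by omega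
      exact (mul_eq_zero.1 (Finset.sum_eq_zero_iff.1 h5 j (Finset.mem_erase.2 ⟨hji, hj⟩))).resolve_left
        (NeZero.ne _)
  obtain ⟨χ₀, hχ₀⟩ := IsPBlock.nonempty hM hB
  obtain ⟨i₀, hi₀, hne₀⟩ : ∃ i ∈ I, mult D χ₀ i ≠ 0 := by
    by_contra hno
    push Not at hno
    have := hsum χ₀ hχ₀
    rw [Finset.sum_eq_zero fun i hi => by rw [hno i hi, mul_zero]] at this
    exact (h.pos hM).ne this
  obtain ⟨-, hd₀, -⟩ := hone χ₀ hχ₀ i₀ hi₀ hne₀
  -- the regular inner products
  have hreg : ∀ ψ : IrrCharacter G,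
      ((B.toFinset.filter fun χ => mult D χ i₀ ≠ 0).card : ℂ) * (regInt p χ₀ ψ : ℂ)
        = (pPartCard p G : ℂ) * (mult D ψ i₀ : ℂ) := by
    intro ψ
    rw [← regInner_eq_mult D ψ i₀, cast_regInt hM.1, ← nsmul_eq_mul, ← Finset.sum_const]
    refine Eq.trans ?_ (Finset.sum_subset (Finset.subset_univ
      (B.toFinset.filter fun χ => mult D χ i₀ ≠ 0)) fun χ _ hχ => ?_)
    · refine Finset.sum_congr rfl fun χ hχ => ?_
      obtain ⟨hχB, hne⟩ := Finset.mem_filter.1 hχ
      obtain ⟨h1, -, h0⟩ := hone χ (Set.mem_toFinset.1 hχB) i₀ hi₀ hne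
      rw [h1, Nat.cast_one, one_mul]
      obtain ⟨g1, -, g0⟩ := hone χ₀ hχ₀ i₀ hi₀ hne₀
      rw [regInner, regInner]
      congr 1
      refine Finset.sum_congr rfl fun x hx => congrArg (· * _) ?_
      have hxr := (Finset.mem_filter.1 hx).2
      rw [apply_eq_sum_phi D χ₀ hxr, apply_eq_sum_phi D χ hxr]
      refine Finset.sum_congr rfl fun j _ => ?_
      by_cases hj : j ∈ I
      · by_cases hji : j = i₀
        · rw [hji, h1, g1]
        · rw [h0 j hj hji, g0 j hj hji]
      · have hj' : D.π (idem hM B) j ≠ 1 := fun e => hj ((memI j).2 e)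
        rw [mult_eq_zero D hB χ₀ j fun hiff => hj' (hiff.1 hχ₀),
          mult_eq_zero D hB χ j fun hiff => hj' (hiff.1 (Set.mem_toFinset.1 hχB))]
    · by_cases hχB : χ ∈ B
      · have : mult D χ i₀ = 0 := by
          by_contra hne
          exact hχ (Finset.mem_filter.2 ⟨Set.mem_toFinset.2 hχB, hne⟩)
        rw [this, Nat.cast_zero, zero_mul]
      · rw [mult_eq_zero D hB χ i₀ fun hiff => hχB (hiff.2 ((memI i₀).1 hi₀)), Nat.cast_zero, zero_mul]
  have hall : ∀ ψ ∈ B, mult D ψ i₀ = 1 := by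
    intro ψ hψ
    have hne : mult D ψ i₀ ≠ 0 := by
      intro h0
      have h1 := hreg ψ
      rw [h0, Nat.cast_zero, mul_zero, mul_eq_zero, Nat.cast_eq_zero, Int.cast_eq_zero,
        Finset.card_eq_zero] at h1
      rcases h1 with h1 | h1
      · exact (Finset.eq_empty_iff_forall_notMem.1 h1 χ₀) (Finset.mem_filter.2
          ⟨Set.mem_toFinset.2 hχ₀, hne₀⟩)
      · exact regInt_ne_zero_of_min hM hB hχ₀ (h.height χ₀ hχ₀) hψ h1
    exact (hone ψ hψ i₀ hi₀ hne).1
  have huniq : ∀ i ∈ I, i = i₀ := by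
    intro i hi
    by_contra hne
    obtain ⟨χ, hχ⟩ := exists_mult_pos D i
    by_cases hχB : χ ∈ B
    · have := (hone χ hχB i₀ hi₀ (by rw [hall χ hχB]; exact one_ne_zero)).2.2 i hi hne
      omega
    · rw [mult_eq_zero D hB χ i fun hiff => hχB (hiff.2 ((memI i).1 hi))] at hχ
      exact lt_irrefl 0 hχ
  refine ⟨i₀, funext fun i => ?_, hd₀, hall, ?_⟩
  · by_cases hi : i = i₀
    · subst hi
      rw [Pi.single_eq_same, (memI i).1 hi₀]
    · rw [Pi.single_eq_of_ne hi, (h01 i).resolve_right fun e => hi (huniq i ((memI i).2 e))]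
  -- the number of characters
  have hfilt : (B.toFinset.filter fun χ => mult D χ i₀ ≠ 0) = B.toFinset :=
    Finset.filter_true_of_mem fun χ hχ => by
      rw [hall χ (Set.mem_toFinset.1 hχ)]; exact one_ne_zero
  have h1 := hreg χ₀
  rw [hfilt, hall χ₀ hχ₀, Nat.cast_one, mul_one, Set.toFinset_card, ← Nat.card_eq_fintype_card] at h1
  have h2 : (Nat.card B : ℤ) * regInt p χ₀ χ₀ = (pPartCard p G : ℤ) := by exact_mod_cast h1
  obtain ⟨⟨A, hA⟩, hA'⟩ := regInt_exact_of_min hM hB hχ₀ (h.height χ₀ hχ₀) hχ₀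
  have hAp : ¬ (p : ℤ) ∣ A := fun hd => hA' (by rw [hA, pow_succ]; exact mul_dvd_mul_left _ hd)
  have h3 : Nat.card B * (p ^ degVal p χ₀ * A.natAbs) = p ^ (Nat.card G).factorization p := by
    have h3 := congrArg Int.natAbs h2
    rw [hA, pPartCard] at h3
    simpa only [Int.natAbs_mul, Int.natAbs_pow, Int.natAbs_natCast, Nat.cast_pow] using h3
  have hA1 : A.natAbs = 1 := by
    obtain ⟨n, -, hn⟩ := (Nat.dvd_prime_pow hM.1).1 (Dvd.intro_left (Nat.card B * p ^ degVal p χ₀)
      (by rw [mul_assoc]; exact h3))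
    rcases n with _ | n
    · rw [hn, pow_zero]
    · exact absurd (Int.natCast_dvd.2 (hn ▸ dvd_pow_self p (Nat.succ_ne_zero n))) hAp
  rw [hA1, mul_one] at h3
  have hv : degVal p χ₀ = d.factorization p := by rw [degVal, h.deg χ₀ hχ₀]
  rw [hv, ← h.factorization_add hM, pow_add] at h3
  exact Nat.eq_of_mul_eq_mul_right (pow_pos hM.1.pos _) h3

/-- The data of a block with one simple module and a commutative corner. -/
theorem exists_corner (D : Dec hM G) (h : EqDeg p M B d) :
    ∃ (i₀ : Fin D.r) (P Q : Fin d → KAlg hM G),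
      let E : KAlg hM G := idem hM B * red hM (D.E i₀)
      0 < d ∧ (∀ ψ ∈ B, mult D ψ i₀ = 1) ∧ (∀ l j, Q l * P j = if l = j then E else 0) ∧
        ∑ l, P l * Q l = idem hM B ∧ (∀ l, P l * E = P l) ∧ (∀ l, E * Q l = Q l) ∧
        (∀ l, idem hM B * P l = P l) ∧
        (∀ r ∈ RankOneCorner.corner (Residue hM) E, ∀ s ∈ RankOneCorner.corner (Residue hM) E,
          r * s = s * r) := by
  obtain ⟨i₀, hπe, hd, hall, hk⟩ := exists_simple D h
  have hB := h.blk
  have hec := idem_commute hM (G := G) (B := B)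
  have hee := idem_mul_self hM hB
  set E : KAlg hM G := idem hM B * red hM (D.E i₀) with hEdef
  have hE : IsIdempotentElem E := by
    show idem hM B * red hM (D.E i₀) * (idem hM B * red hM (D.E i₀)) = _
    rw [mul_assoc, ← mul_assoc (red hM (D.E i₀)), ← hec, mul_assoc, ((D.idemE i₀).map (red hM)).eq,
      ← mul_assoc, hee]
  have heE : idem hM B * E = E := by rw [hEdef, ← mul_assoc, hee]
  have hπE : D.π E = Pi.single i₀ (Matrix.single (0 : Fin (D.d i₀)) 0 1) := by
    rw [hEdef, map_mul, hπe, D.hπE, ← Pi.single_mul, one_mul]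
  subst hd
  obtain ⟨P, Q, hQP, hsum, hPE, hEQ, heP⟩ :=
    RankOneCorner.exists_units D.dne D.surj D.nil hec hee hπe hE heE hπE
  refine ⟨i₀, P, Q, h.pos hM, hall, hQP, hsum, hPE, hEQ, heP, ?_⟩
  haveI : Module.Finite (Residue hM) (KAlg hM G) := Module.Finite.equiv (coord hM (G := G)).symm
  have hgen : idem hM B ∈ Submodule.span (Residue hM)
      (Set.range fun q : KAlg hM G × KAlg hM G => q.1 * E * q.2) := by
    rw [← hsum]
    exact sum_mem fun l _ => Submodule.subset_span ⟨(P l, Q l), congrArg (· * Q l) (hPE l)⟩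
  have h1 := RankOneCorner.finrank_corner hec hE heE hee hgen (finrank_cocentre hM hB)
  have h2 := finrank_range_mulLeft hM hB
  rw [RankOneCorner.finrank_range_eq hE hec hee hQP hsum hPE hEQ heP] at h2
  have h3 : Module.finrank (Residue hM) (RankOneCorner.corner (Residue hM) E) = Nat.card B := by
    refine Nat.eq_of_mul_eq_mul_left (pow_pos (h.pos hM) 2) (Nat.cast_injective (R := ℂ) ?_)
    rw [h2, Finset.sum_congr rfl fun χ hχ => by rw [irr_one_eq, h.deg χ (Set.mem_toFinset.1 hχ)],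
      Finset.sum_const, Set.toFinset_card, ← Nat.card_eq_fintype_card, nsmul_eq_mul]
    push_cast
    ring
  rw [h3] at h1
  have h4 : SymLocalCorner.comSub (RankOneCorner.corner (Residue hM) E) = ⊥ :=
    Submodule.finrank_eq_zero.1 (Nat.add_eq_right.1 h1.symm)
  intro r hr s hs
  rw [← sub_eq_zero]
  have := SymLocalCorner.comSub_comm hr hs
  rw [h4, Submodule.mem_bot] at this
  exact this

end CfsgLib.Blocks.EqualDegree
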